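import Cfsg.Agent.Lib.Helper98.A8.Pkgs

/-!
# S2553 package [ACT] (helper89)
-/

set_option autoImplicit false

namespace Cfsg.Agent.Lib.Helper89.A8

theorem pkgAct : Cfsg.Agent.Lib.Helper98.A8.PkgAct := by
  intro K α _ _ φ X hinv hfaith
  let inst : MulAction K X :=
    { smul := fun k x => ⟨φ k x, hinv k k.2 x x.2⟩
      one_smul := fun x => by
        apply Subtype.ext
        show φ ((1 : K) : Equiv.Perm (Fin 8)) x = x
        simp
      mul_smul := fun k l x => by
        apply Subtype.ext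
        show φ ((k * l : K) : Equiv.Perm (Fin 8)) x = φ k (φ l x)
        simp [map_mul] }
  refine ⟨MulAction.toPermHom K X, ?_⟩
  rw [injective_iff_map_eq_one]
  intro k hk
  apply Subtype.ext
  apply hfaith k k.2
  intro x hx
  have h1 : (MulAction.toPermHom K X k) ⟨x, hx⟩ = ⟨x, hx⟩ := by rw [hk]; rfl
  have h2 : ((MulAction.toPermHom K X k) ⟨x, hx⟩ : α) = φ k x := rfl
  rw [← h2, h1]

end Cfsg.Agent.Lib.Helper89.A8
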