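import Cfsg.Agent.Lib.Helper98.A8.Pkgs

/-!
# S2553 package [SIMP] (helper89)
-/

set_option autoImplicit false

namespace Cfsg.Agent.Lib.Helper89.A8

theorem pkgSimp : Cfsg.Agent.Lib.Helper98.A8.PkgSimp := by
  intro S hS hcrit
  obtain ⟨g0, hg0S, hg01⟩ := hS
  have hnt : Nontrivial ↥(Subgroup.closure S) :=
    ⟨⟨⟨g0, Subgroup.subset_closure hg0S⟩, 1, fun h => hg01 (congrArg Subtype.val h)⟩⟩
  refine @IsSimpleGroup.mk _ _ hnt ?_
  intro M hM
  by_cases hbot : M = ⊥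
  · exact Or.inl hbot
  · right
    obtain ⟨x', hx'⟩ := (Subgroup.ne_bot_iff_exists_ne_one (H := M)).1 hbot
    have hxM : (x' : ↥(Subgroup.closure S)) ∈ M := x'.2
    have hx1 : ((x' : ↥(Subgroup.closure S)) : Equiv.Perm (Fin 8)) ≠ 1 :=
      fun h => hx' (Subtype.ext (Subtype.ext h))
    have hall := hcrit (M.map (Subgroup.closure S).subtype)
      ⟨((x' : ↥(Subgroup.closure S)) : Equiv.Perm (Fin 8)), Subgroup.mem_map_of_mem _ hxM,
        (x' : ↥(Subgroup.closure S)).2, hx1⟩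
      (by
        rintro k hk _ ⟨m, hm, rfl⟩
        exact ⟨⟨k, hk⟩ * m * ⟨k, hk⟩⁻¹, hM.conj_mem m hm ⟨k, hk⟩, rfl⟩)
    have hle : Subgroup.closure S ≤ M.map (Subgroup.closure S).subtype :=
      (Subgroup.closure_le _).2 hall
    rw [eq_top_iff]
    intro y _
    obtain ⟨m, hm, hmy⟩ := hle y.2
    have : m = y := Subtype.ext hmy
    rw [← this]; exact hm

end Cfsg.Agent.Lib.Helper89.A8
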